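import Groth.Agent.ChowLib.Integral
import Groth.Agent.DVRDom.Scheme
import Groth.Agent.ZMT.FiniteFactor
import Groth.Agent.RedSepLib.Reduced

/-!
# A valuative criterion for properness over a neighbourhood of a point
-/

set_option autoImplicit false
set_option backward.isDefEq.respectTransparency.types false
set_option linter.style.haveILetI false
universe u

open AlgebraicGeometry CategoryTheory CategoryTheory.Limits TopologicalSpace IsLocalRing CohB1

namespace Groth.Agent.ProperNear

/-- generic points over discrete valuation rings centred at `y` extend -/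
def DVRLiftAt {X Y : Scheme.{u}} (f : X ⟶ Y) (y : Y) (P : X → Prop) : Prop :=
  ∀ (R K : Type u) [CommRing R] [IsDomain R] [IsDiscreteValuationRing R] [Field K] [Algebra R K]
    [IsFractionRing R K] (g : Spec (CommRingCat.of R) ⟶ Y) (σ : Spec (CommRingCat.of K) ⟶ X),
    g (closedPoint R) = y →
    σ ≫ f = Spec.map (CommRingCat.ofHom (algebraMap R K)) ≫ g → P (σ (closedPoint K)) →
    ∃ s : Spec (CommRingCat.of R) ⟶ X, s ≫ f = g ∧ Spec.map (CommRingCat.ofHom (algebraMap R K)) ≫ s = σ

theorem isDominant_of_injective {R K : Type u} [CommRing R] [CommRing K] (φ : R →+* K)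
    (h : Function.Injective φ) : IsDominant (Spec.map (CommRingCat.ofHom φ)) := by
  refine ⟨(PrimeSpectrum.denseRange_comap_iff_ker_le_nilRadical φ).2 ?_⟩
  rw [(RingHom.injective_iff_ker_eq_bot φ).1 h]
  exact bot_le

theorem exists_isProper_nhd_integral {A : Type u} [CommRing A] [IsNoetherianRing A] {Z : Scheme.{u}}
    [IsIntegral Z] (f : Z ⟶ Spec (CommRingCat.of A)) [IsSeparated f] [LocallyOfFiniteType f] [QuasiCompact f]
    (y : ↥(Spec (CommRingCat.of A))) (H : DVRLiftAt f y (fun z => z = genericPoint Z)) :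
    ∃ U : (Spec (CommRingCat.of A)).Opens, y ∈ U ∧ IsProper (f ∣_ U) := by
  obtain ⟨N, X', π, q, U0, hint, hπ, hsurj, hq, hmono, -, -, hlft, -⟩ := ChowLib.exists_chow f
  let b0 := ProjSpace.toSpec N A
  haveI : IsProper b0 := ProjCoord.isProper_baseMap (n := N) (R := A)
  haveI : QuasiCompact (q ≫ b0) := by rw [hq]; infer_instance
  haveI : QuasiCompact q := QuasiCompact.of_comp q b0
  haveI : LocallyQuasiFinite q := inferInstance
  haveI : CompactSpace (ProjSpace N A) := QuasiCompact.compactSpace_of_compactSpace b0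
  haveI : QuasiSeparatedSpace (ProjSpace N A) := quasiSeparatedSpace_of_quasiSeparated b0
  haveI : IsSeparated q := inferInstance
  obtain ⟨T1, j1, π1, hj1, -, hπ1, hfac⟩ := ZMT.exists_openImmersion_finite q
  let C : Closeds T1 := ⟨closure {j1 (genericPoint X')}, isClosed_closure⟩
  let I := Scheme.IdealSheafData.vanishingIdeal C
  have hr : Set.range I.subschemeι = (C : Set T1) := by
    rw [Scheme.IdealSheafData.range_subschemeι, Scheme.IdealSheafData.coe_support_vanishingIdeal]
  obtain ⟨j, hj⟩ := RedSepLib.exists_lift_of_range_subset j1 I.subschemeι (by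
    rw [hr]
    rintro _ ⟨x, rfl⟩
    exact ((genericPoint_specializes x).map j1.continuous).mem_closure)
  haveI : IsImmersion (j ≫ I.subschemeι) := by rw [hj]; infer_instance
  haveI : IsImmersion j := IsImmersion.of_comp j I.subschemeι
  let b : I.subscheme ⟶ Spec (CommRingCat.of A) := I.subschemeι ≫ π1 ≫ b0
  haveI : IsProper b := inferInstance
  haveI : IsLocallyNoetherian I.subscheme := LocallyOfFiniteType.isLocallyNoetherian b
  have hjb : j ≫ b = π ≫ f := by
    show j ≫ I.subschemeι ≫ π1 ≫ b0 = π ≫ f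
    rw [reassoc_of% hj, reassoc_of% hfac, hq]
  have hopen : IsOpen (Set.range j) := by
    have : Set.range j = I.subschemeι ⁻¹' Set.range j1 := by
      ext t
      refine ⟨fun ⟨x, hx⟩ => ⟨x, by rw [← hx, ← hj]; rfl⟩, fun ⟨x, hx⟩ => ⟨x, I.subschemeι.isEmbedding.injective ?_⟩⟩
      rw [← hx, ← hj]; rfl
    rw [this]
    exact (j1.isOpenEmbedding.isOpen_range).preimage I.subschemeι.continuous
  let U : (Spec (CommRingCat.of A)).Opens :=
    ⟨(b '' (Set.range j)ᶜ)ᶜ, (b.isClosedMap _ hopen.isClosed_compl).isOpen_compl⟩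
  refine ⟨U, ?_, ?_⟩
  · -- no point of the boundary lies over `y`
    rintro ⟨t, ht, hty⟩
    have hsp : j (genericPoint X') ⤳ t := by
      refine I.subschemeι.isEmbedding.isInducing.specializes_iff.1 ?_
      rw [← Scheme.Hom.comp_apply, hj]
      exact specializes_iff_mem_closure.2 (hr.le ⟨t, rfl⟩)
    obtain ⟨R, h, hR, hh1, hh2⟩ := DVRDom.exists_dvr_through_specialization j (genericPoint X') t hsp
      fun heq => ht ⟨_, heq.symm⟩
    let σ' := X'.fromSpecResidueField (genericPoint X')
    have hgen : π (genericPoint X') = genericPoint Z := by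
      obtain ⟨w, hw⟩ := π.surjective (genericPoint Z)
      exact (((genericPoint_specializes w).map π.continuous).antisymm
        (hw.symm ▸ genericPoint_specializes _)).eq.trans hw
    obtain ⟨s, hs1, hs2⟩ := H R (X'.residueField (genericPoint X')) (h ≫ b) (σ' ≫ π)
      (by rw [Scheme.Hom.comp_apply]; exact (congrArg b hh1).trans hty)
      (by
        rw [Category.assoc, ← hjb]
        exact ((reassoc_of% hh2) b).symm)
      (by rw [Scheme.Hom.comp_apply, show σ' (closedPoint _) = genericPoint X' from Scheme.fromSpecResidueField_apply _ _, hgen])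
    have hex : ValuativeCriterion.Existence π := by
      have : UniversallyClosed π := inferInstance
      rw [UniversallyClosed.eq_valuativeCriterion] at this
      exact this.1
    obtain ⟨⟨s', hl1, hl2⟩⟩ := (hex { R := R, K := X'.residueField (genericPoint X'), i₁ := σ', i₂ := s,
                                      commSq := ⟨hs2.symm⟩ }).exists_lift
    haveI : IsDominant (Spec.map (CommRingCat.ofHom R.subtype)) :=
      isDominant_of_injective _ Subtype.val_injective
    have heq : s' ≫ j = h := by
      refine ext_of_isDominant_of_isSeparated b ?_ (Spec.map (CommRingCat.ofHom R.subtype)) ?_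
      · rw [Category.assoc, hjb, reassoc_of% hl2, hs1]
      · rw [← Category.assoc]
        exact ((congrArg (· ≫ j) hl1).trans hh2.symm)
    exact ht ⟨s' (closedPoint R), by rw [← Scheme.Hom.comp_apply, heq, hh1]⟩
  · -- over `U` the compactification has no boundary
    haveI : IsImmersion (j ∣_ b ⁻¹ᵁ U) := IsZariskiLocalAtTarget.restrict ‹_› _
    haveI : Surjective (j ∣_ b ⁻¹ᵁ U) := ⟨fun t => by
      obtain ⟨x, hx⟩ : t.1 ∈ Set.range j := by
        by_contra hc
        exact t.2 ⟨t.1, hc, rfl⟩
      exact ⟨⟨x, show j x ∈ b ⁻¹ᵁ U from hx.symm ▸ t.2⟩, Subtype.ext (by rw [morphismRestrict_base_coe]; exact hx)⟩⟩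
    haveI : IsClosedImmersion (j ∣_ b ⁻¹ᵁ U) :=
      .of_isPreimmersion _ (by rw [(j ∣_ b ⁻¹ᵁ U).surjective.range_eq]; exact isClosed_univ)
    haveI : IsProper (b ∣_ U) := IsZariskiLocalAtTarget.restrict ‹IsProper b› U
    haveI : UniversallyClosed ((π ≫ f) ∣_ U) := by
      rw [← hjb, morphismRestrict_comp]
      exact MorphismProperty.comp_mem @UniversallyClosed (j ∣_ b ⁻¹ᵁ U) (b ∣_ U)
        (show UniversallyClosed (j ∣_ b ⁻¹ᵁ U) from inferInstance)
        (show UniversallyClosed (b ∣_ U) from IsProper.toUniversallyClosed)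
    haveI : UniversallyClosed ((π ∣_ f ⁻¹ᵁ U) ≫ (f ∣_ U)) := by
      rw [← morphismRestrict_comp]; assumption
    haveI : Surjective (π ∣_ f ⁻¹ᵁ U) := IsZariskiLocalAtTarget.restrict hsurj _
    haveI : UniversallyClosed (f ∣_ U) := UniversallyClosed.of_comp_surjective (π ∣_ f ⁻¹ᵁ U) (f ∣_ U)
    haveI : IsSeparated (f ∣_ U) := inferInstance
    haveI : LocallyOfFiniteType (f ∣_ U) := IsZariskiLocalAtTarget.restrict ‹_› U
    exact { }

end Groth.Agent.ProperNear
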