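import Groth.Agent.ProperNear.Basic
import Groth.Agent.EquidimChart.Comp

/-!
# Properness near a point, over a locally Noetherian base
-/

set_option autoImplicit false
set_option backward.isDefEq.respectTransparency.types false
set_option linter.style.haveILetI false
universe u

open AlgebraicGeometry CategoryTheory CategoryTheory.Limits TopologicalSpace IsLocalRing

namespace Groth.Agent.ProperNear

theorem specializes_closedPoint_dominant {R K : Type u} [CommRing R] [IsDomain R] [IsLocalRing R] [Field K]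
    [Algebra R K] [IsFractionRing R K] (p : ↥(Spec (CommRingCat.of R))) :
    Spec.map (CommRingCat.ofHom (algebraMap R K)) (closedPoint K) ⤳ p := by
  refine (PrimeSpectrum.le_iff_specializes _ _).1 ?_
  show Ideal.comap (algebraMap R K) (maximalIdeal K) ≤ _
  rw [IsLocalRing.maximalIdeal_eq_bot, ← RingHom.ker_eq_comap_bot,
    (RingHom.injective_iff_ker_eq_bot _).1 (IsFractionRing.injective R K)]
  exact bot_le

theorem existence_of_universallyClosed {X Y : Scheme.{u}} (f : X ⟶ Y) [UniversallyClosed f] :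
    ValuativeCriterion.Existence f := by
  have : UniversallyClosed f := inferInstance
  rw [UniversallyClosed.eq_valuativeCriterion] at this
  exact this.1

/-- properness near `y` gives lifts -/
theorem dvrLiftAt_of_isProper {X Y : Scheme.{u}} (f : X ⟶ Y) {y : Y} {U : Y.Opens} (hy : y ∈ U)
    [hU : IsProper (f ∣_ U)] (P : X → Prop) : DVRLiftAt f y P := by
  intro R K _ _ _ _ _ _ g σ hg hσ _
  have hgU : Set.range g ⊆ Set.range U.ι := by
    rintro _ ⟨p, rfl⟩
    rw [Scheme.Opens.range_ι]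
    exact ((IsLocalRing.specializes_closedPoint p).map g.continuous).mem_open U.isOpen (hg.symm ▸ hy)
  let g' := IsOpenImmersion.lift U.ι g hgU
  have hσU : Set.range σ ⊆ Set.range (f ⁻¹ᵁ U).ι := by
    rintro _ ⟨p, rfl⟩
    rw [Scheme.Opens.range_ι]
    show f (σ p) ∈ U
    rw [← Scheme.Hom.comp_apply, hσ, Scheme.Hom.comp_apply]
    have := hgU ⟨Spec.map (CommRingCat.ofHom (algebraMap R K)) p, rfl⟩
    rwa [Scheme.Opens.range_ι] at this
  let σ' := IsOpenImmersion.lift (f ⁻¹ᵁ U).ι σ hσU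
  haveI : UniversallyClosed (f ∣_ U) := hU.toUniversallyClosed
  obtain ⟨⟨s, hl1, hl2⟩⟩ := (existence_of_universallyClosed (f ∣_ U)
    { R := R, K := K, i₁ := σ', i₂ := g',
      commSq := ⟨by
        rw [← cancel_mono U.ι, Category.assoc, Category.assoc, morphismRestrict_ι, IsOpenImmersion.lift_fac,
          IsOpenImmersion.lift_fac_assoc, hσ]⟩ }).exists_lift
  refine ⟨s ≫ (f ⁻¹ᵁ U).ι, ?_, ?_⟩
  · rw [Category.assoc, ← morphismRestrict_ι, reassoc_of% hl2, IsOpenImmersion.lift_fac]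
  · rw [← Category.assoc]
    exact (congrArg (· ≫ (f ⁻¹ᵁ U).ι) hl1).trans (IsOpenImmersion.lift_fac _ _ _)

theorem exists_isProper_nhd_affine {A : Type u} [CommRing A] [IsNoetherianRing A] {X : Scheme.{u}}
    (f : X ⟶ Spec (CommRingCat.of A)) [IsSeparated f] [LocallyOfFiniteType f] [QuasiCompact f]
    (y : ↥(Spec (CommRingCat.of A))) (H : DVRLiftAt f y (fun x => ∀ z, z ⤳ x → z = x)) :
    ∃ U : (Spec (CommRingCat.of A)).Opens, y ∈ U ∧ IsProper (f ∣_ U) := by
  haveI : CompactSpace X := QuasiCompact.compactSpace_of_compactSpace f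
  haveI : IsLocallyNoetherian X := LocallyOfFiniteType.isLocallyNoetherian f
  haveI : IsNoetherian X := {}
  have hfin : (irreducibleComponents (X : Type u)).Finite := NoetherianSpace.finite_irreducibleComponents
  have key : ∀ Z ∈ irreducibleComponents (X : Type u), ∃ W : TopologicalSpace.Closeds X, (W : Set X) = Z ∧
      ∃ U : (Spec (CommRingCat.of A)).Opens, y ∈ U ∧
        IsProper (((Scheme.IdealSheafData.vanishingIdeal W).subschemeι ≫ f) ∣_ U) := by
    intro Z hZ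
    let W : TopologicalSpace.Closeds X := ⟨Z, isClosed_of_mem_irreducibleComponents Z hZ⟩
    have hWc : (W : Set X) = closure {hZ.1.genericPoint} := (DimTheory.component_eq_closure hZ).symm
    obtain ⟨hirr, hgen⟩ := EquidimChart.genericPoint_component W hWc
    let I := Scheme.IdealSheafData.vanishingIdeal W
    haveI : AlgebraicGeometry.IsIntegral I.subscheme := isIntegral_of_irreducibleSpace_of_isReduced _
    refine ⟨W, rfl, exists_isProper_nhd_integral (I.subschemeι ≫ f) y ?_⟩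
    intro R K _ _ _ _ _ _ g σ hg hσ hgσ
    obtain ⟨s, hs1, hs2⟩ := H R K g (σ ≫ I.subschemeι) hg (by rw [Category.assoc, hσ]) (by
      show ∀ z, z ⤳ (σ ≫ I.subschemeι) (closedPoint K) → z = _
      rw [Scheme.Hom.comp_apply, hgσ, hgen]
      exact DimTheory.mem_component_isMax hZ)
    obtain ⟨s', hs'⟩ := RedSepLib.exists_lift_of_range_subset s I.subschemeι (by
      rintro _ ⟨p, rfl⟩
      refine ((specializes_closedPoint_dominant (K := K) p).map s.continuous).mem_closed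
        I.subschemeι.isClosedEmbedding.isClosed_range ?_
      rw [← Scheme.Hom.comp_apply, hs2]
      exact ⟨_, rfl⟩)
    refine ⟨s', by rw [← hs1, ← hs', Category.assoc], ?_⟩
    rw [← cancel_mono I.subschemeι, Category.assoc, hs']
    exact hs2
  choose W hW U hyU hU using key
  haveI : Finite ↥(irreducibleComponents (X : Type u)) := hfin.to_subtype
  let O : (Spec (CommRingCat.of A)).Opens := ⟨⋂ Z : ↥(irreducibleComponents (X : Type u)), (U Z.1 Z.2 : Set _),
    by exact isOpen_iInter_of_finite fun Z => (U Z.1 Z.2).isOpen⟩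
  refine ⟨O, Set.mem_iInter.2 fun Z => hyU Z.1 Z.2, ?_⟩
  haveI : UniversallyClosed (f ∣_ O) := by
    haveI : QuasiCompact (f ∣_ O) := IsZariskiLocalAtTarget.restrict ‹_› O
    refine UniversallyClosed.of_valuativeCriterion _ ?_
    rintro ⟨R, K, i₁, i₂, ⟨w⟩⟩
    let x : X := (f ⁻¹ᵁ O).ι (i₁ (closedPoint K))
    have hx : x ∈ irreducibleComponent x := mem_irreducibleComponent
    have hZ := irreducibleComponent_mem_irreducibleComponents x
    let I := Scheme.IdealSheafData.vanishingIdeal (W _ hZ)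
    let ιO := I.subschemeι ∣_ (f ⁻¹ᵁ O)
    haveI : IsClosedImmersion ιO := IsZariskiLocalAtTarget.restrict (P := @IsClosedImmersion) (inferInstance : IsClosedImmersion I.subschemeι) _
    obtain ⟨i₁', hi₁⟩ := RedSepLib.exists_lift_of_range_subset i₁ ιO (by
      rintro _ ⟨p, rfl⟩
      rw [Subsingleton.elim p (closedPoint K)]
      obtain ⟨w', hw'⟩ : x ∈ Set.range I.subschemeι := by
        rw [EquidimChart.range_subschemeι_vanishingIdeal, hW]; exact hx
      exact ⟨⟨w', show I.subschemeι w' ∈ f ⁻¹ᵁ O from hw'.symm ▸ (i₁ (closedPoint K)).2⟩,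
        Subtype.ext (by rw [morphismRestrict_base_coe]; exact hw')⟩)
    haveI : IsProper ((I.subschemeι ≫ f) ∣_ O) := by
      have hle : O ≤ U _ hZ := fun p hp => Set.mem_iInter.1 hp ⟨_, hZ⟩
      haveI := hU _ hZ
      have h2 : IsProper ((I.subschemeι ≫ f) ∣_ U _ hZ ∣_ ((U _ hZ).ι ⁻¹ᵁ O)) :=
        IsZariskiLocalAtTarget.restrict ‹_› _
      rw [MorphismProperty.arrow_mk_iso_iff @IsProper (morphismRestrictRestrict _ _ _)] at h2
      have heq : (U _ hZ).ι ''ᵁ ((U _ hZ).ι ⁻¹ᵁ O) = O := by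
        rw [Scheme.Hom.image_preimage_eq_opensRange_inf, Scheme.Opens.opensRange_ι]
        exact inf_eq_right.2 hle
      rwa [heq] at h2
    haveI : UniversallyClosed ((I.subschemeι ≫ f) ∣_ O) := IsProper.toUniversallyClosed
    haveI : UniversallyClosed (ιO ≫ (f ∣_ O)) := by
      rw [← morphismRestrict_comp]; assumption
    obtain ⟨⟨s, hl1, hl2⟩⟩ := (existence_of_universallyClosed (ιO ≫ (f ∣_ O))
      { R := R, K := K, i₁ := i₁', i₂ := i₂,
        commSq := ⟨by rw [reassoc_of% hi₁]; exact w⟩ }).exists_lift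
    exact ⟨⟨⟨s ≫ ιO, by rw [← Category.assoc]; exact (congrArg (· ≫ ιO) hl1).trans hi₁,
      by rw [Category.assoc]; exact hl2⟩⟩⟩
  haveI : IsSeparated (f ∣_ O) := IsZariskiLocalAtTarget.restrict ‹_› O
  haveI : LocallyOfFiniteType (f ∣_ O) := IsZariskiLocalAtTarget.restrict ‹_› O
  exact { }

theorem exists_isProper_nhd {X Y : Scheme.{u}} [IsLocallyNoetherian Y]
    (f : X ⟶ Y) [IsSeparated f] [LocallyOfFiniteType f] [QuasiCompact f]
    (y : Y) (H : DVRLiftAt f y (fun x => ∀ z, z ⤳ x → z = x)) :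
    ∃ U : Y.Opens, y ∈ U ∧ IsProper (f ∣_ U) := by
  obtain ⟨V, hV, hyV, -⟩ := exists_isAffineOpen_mem_and_subset (X := Y) (x := y) (U := ⊤) trivial
  haveI : IsNoetherianRing Γ(Y, V) := IsLocallyNoetherian.component_noetherian ⟨V, hV⟩
  haveI : IsSeparated (f ∣_ V) := IsZariskiLocalAtTarget.restrict ‹_› V
  haveI : LocallyOfFiniteType (f ∣_ V) := IsZariskiLocalAtTarget.restrict ‹_› V
  haveI : QuasiCompact (f ∣_ V) := IsZariskiLocalAtTarget.restrict ‹_› V
  let fV : (f ⁻¹ᵁ V : Scheme.{u}) ⟶ Spec Γ(Y, V) := (f ∣_ V) ≫ hV.isoSpec.hom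
  have hfV : fV ≫ hV.fromSpec = (f ⁻¹ᵁ V).ι ≫ f := by
    rw [Category.assoc, hV.isoSpec_hom_fromSpec, morphismRestrict_ι]
  obtain ⟨U, hyU, hU⟩ := exists_isProper_nhd_affine (A := Γ(Y, V)) fV (hV.isoSpec.hom ⟨y, hyV⟩) (by
    intro R K _ _ _ _ _ _ g σ hg hσ hmax
    obtain ⟨s, hs1, hs2⟩ := H R K (g ≫ hV.fromSpec) (σ ≫ (f ⁻¹ᵁ V).ι)
      (by
        rw [Scheme.Hom.comp_apply, hg, ← Scheme.Hom.comp_apply, hV.isoSpec_hom_fromSpec]
        rfl)
      (by rw [Category.assoc, ← hfV, reassoc_of% hσ])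
      (fun z hz => by
        have hzV : z ∈ f ⁻¹ᵁ V := hz.mem_open (f ⁻¹ᵁ V).isOpen (σ (closedPoint K)).2
        exact congrArg Subtype.val (hmax ⟨z, hzV⟩ ((f ⁻¹ᵁ V).ι.isEmbedding.isInducing.specializes_iff.1 hz)))
    let s' := IsOpenImmersion.lift (f ⁻¹ᵁ V).ι s (by
      rintro _ ⟨p, rfl⟩
      rw [Scheme.Opens.range_ι]
      show f (s p) ∈ V
      rw [← Scheme.Hom.comp_apply, hs1, Scheme.Hom.comp_apply]
      exact hV.range_fromSpec.le ⟨_, rfl⟩)
    have hs' : s' ≫ (f ⁻¹ᵁ V).ι = s := IsOpenImmersion.lift_fac _ _ _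
    refine ⟨s', ?_, ?_⟩
    · rw [← cancel_mono hV.fromSpec, Category.assoc, hfV, reassoc_of% hs', hs1]
    · rw [← cancel_mono (f ⁻¹ᵁ V).ι, Category.assoc, hs', hs2])
  rw [morphismRestrict_comp] at hU
  have hU2 : IsProper ((f ∣_ V) ∣_ hV.isoSpec.hom ⁻¹ᵁ U) :=
    (MorphismProperty.cancel_right_of_respectsIso @IsProper ((f ∣_ V) ∣_ hV.isoSpec.hom ⁻¹ᵁ U) (hV.isoSpec.hom ∣_ U)).1 hU
  rw [MorphismProperty.arrow_mk_iso_iff @IsProper (morphismRestrictRestrict _ _ _)] at hU2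
  exact ⟨V.ι ''ᵁ (hV.isoSpec.hom ⁻¹ᵁ U), ⟨⟨y, hyV⟩, hyU, rfl⟩, hU2⟩

theorem exists_isProper_nhd_iff {X Y : Scheme.{u}} [IsLocallyNoetherian Y]
    (f : X ⟶ Y) [IsSeparated f] [LocallyOfFiniteType f] [QuasiCompact f] (y : Y) :
    (∃ U : Y.Opens, y ∈ U ∧ IsProper (f ∣_ U)) ↔ DVRLiftAt f y (fun x => ∀ z, z ⤳ x → z = x) :=
  ⟨fun ⟨_, hy, _⟩ => dvrLiftAt_of_isProper f hy _, exists_isProper_nhd f y⟩

end Groth.Agent.ProperNear
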